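import Groth.Agent.H26ZClos.Crit
import Groth.Agent.H10Coh.ToSheaf
import Mathlib.Topology.Sheaves.Skyscraper
import Mathlib.Topology.Sheaves.Abelian

/-! Stalks of the Z-closure. -/

set_option autoImplicit false

universe u

open CategoryTheory CategoryTheory.Limits AlgebraicGeometry TopologicalSpace Opposite

namespace Groth.Agent.H26ZClos

variable {X : Scheme.{u}}

/-- O_X-modules as abelian sheaves. -/
noncomputable def toAb : X.Modules ⥤ TopCat.Sheaf AddCommGrpCat.{u} X.toPresheafedSpace.carrier :=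
  SheafOfModules.toSheaf X.ringCatSheaf

/-- The stalk of the underlying abelian sheaf. -/
noncomputable def stalkFun (x : X) : X.Modules ⥤ AddCommGrpCat.{u} :=
  toAb ⋙ (TopCat.Sheaf.forget AddCommGrpCat.{u} X.toPresheafedSpace.carrier ⋙
    TopCat.Presheaf.stalkFunctor AddCommGrpCat.{u} x)

theorem stalkFun_map (x : X) {M N : X.Modules} (φ : M ⟶ N) :
    (stalkFun x).map φ = (TopCat.Presheaf.stalkFunctor (C := Ab.{u}) x).map φ.mapPresheaf := rfl

theorem preservesColimitsOfShape_stalkFun (x : X) (K : Type u) [SmallCategory K] :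
    PreservesColimitsOfShape K (stalkFun x) := by
  haveI : PreservesColimitsOfShape K (toAb (X := X)) := H10Coh.preservesColimitsOfShape_toSheaf X.ringCatSheaf K
  exact comp_preservesColimitsOfShape _ _

/-- A map bijective on the opens inside `U` is bijective on stalks at points of `U`. -/
theorem stalk_bijective_of_app {Y : TopCat.{u}} {P Q : TopCat.Presheaf AddCommGrpCat.{u} Y} (φ : P ⟶ Q)
    (U : Opens Y) (h : ∀ W ≤ U, Function.Bijective (φ.app (op W))) {x : Y} (hx : x ∈ U) :
    Function.Bijective ((TopCat.Presheaf.stalkFunctor AddCommGrpCat.{u} x).map φ) := by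
  constructor
  · intro a b e
    obtain ⟨V, hV, s, rfl⟩ := P.exists_germ_eq a
    obtain ⟨V', hV', t, rfl⟩ := P.exists_germ_eq b
    rw [TopCat.Presheaf.stalkFunctor_map_germ_apply, TopCat.Presheaf.stalkFunctor_map_germ_apply] at e
    obtain ⟨W, hxW, iV, iV', e⟩ := TopCat.Presheaf.germ_eq _ x hV hV' _ _ e
    refine TopCat.Presheaf.germ_ext _ (W ⊓ U) ⟨hxW, hx⟩ (homOfLE inf_le_left ≫ iV) (homOfLE inf_le_left ≫ iV') ?_
    refine (h _ inf_le_right).1 ?_
    rw [← ConcreteCategory.comp_apply, ← ConcreteCategory.comp_apply, φ.naturality, φ.naturality]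
    simp only [op_comp, Functor.map_comp, ConcreteCategory.comp_apply]
    exact congrArg _ e
  · intro b
    obtain ⟨V, hV, s, rfl⟩ := Q.exists_germ_eq b
    obtain ⟨t, ht⟩ := (h (V ⊓ U) inf_le_right).2 (Q.map (homOfLE inf_le_left).op s)
    refine ⟨P.germ (V ⊓ U) x ⟨hV, hx⟩ t, ?_⟩
    rw [TopCat.Presheaf.stalkFunctor_map_germ_apply, ht, TopCat.Presheaf.germ_res_apply]

theorem stalk_toDiagram_bijective {Z : Set X} (F : X.Modules) (T : ZClos.Cl Z) {x : X} (hx : x ∈ T.U) :
    Function.Bijective ((stalkFun x).map (ZClos.toDiagram Z F T)) := by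
  rw [stalkFun_map]
  refine stalk_bijective_of_app _ T.U (fun W hW => ?_) hx
  show Function.Bijective ((ZClos.toDiagram Z F T).app W)
  rw [toDiagram_app]
  have e : T.U.ι ''ᵁ T.U.ι ⁻¹ᵁ W = W := by rw [ι_image_preimage', inf_eq_left.2 hW]
  have hid : Function.Bijective (res F (le_refl W)) := by
    rw [show ⇑(res F (le_refl W)) = id from funext fun s => res_self F s]
    exact Function.bijective_id
  exact ⟨(res_injective_congr F _ _ e).2 hid.1, (res_surjective_congr F _ _ e).2 hid.2⟩

theorem rhoStalk_bijective {Z : Set X} (F : X.Modules) {x : X} (hx : x ∉ Z) :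
    Function.Bijective (ZClos.rhoStalk Z F x) := by
  haveI := preservesColimitsOfShape_stalkFun x (ZClos.Cl Z)
  haveI : ∀ T, IsIso ((Functor.whiskerRight (units Z F) (stalkFun x)).app T) := fun T =>
    (ConcreteCategory.isIso_iff_bijective _).2 (stalk_toDiagram_bijective F T fun h => hx (T.2 h))
  haveI : IsIso (Functor.whiskerRight (units Z F) (stalkFun x)) := NatIso.isIso_of_isIso_app _
  have h1 := isColimitOfPreserves (stalkFun x) (isColimitConstCocone (ZClos.Cl Z) F)
  have h2 := isColimitOfPreserves (stalkFun x) (colimit.isColimit ((ZClos.diagram Z).obj F))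
  let e := IsColimit.coconePointsIsoOfNatIso h1 h2 (asIso (Functor.whiskerRight (units Z F) (stalkFun x)))
  have he : (stalkFun x).map (ZClos.rhoApp Z F) = e.hom := by
    refine h1.hom_ext fun T => ?_
    refine Eq.trans ?_ (IsColimit.comp_coconePointsIsoOfNatIso_hom h1 h2
      (asIso (Functor.whiskerRight (units Z F) (stalkFun x))) T).symm
    show (stalkFun x).map (𝟙 F) ≫ (stalkFun x).map (ZClos.rhoApp Z F) =
      (stalkFun x).map (ZClos.toDiagram Z F T) ≫ (stalkFun x).map (colimit.ι ((ZClos.diagram Z).obj F) T)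
    rw [← Functor.map_comp, ← Functor.map_comp, Category.id_comp, ZClos.rhoApp_eq Z F T]
    rfl
  show Function.Bijective ((stalkFun x).map (ZClos.rhoApp Z F))
  rw [he]
  exact ConcreteCategory.bijective_of_isIso e.hom

end Groth.Agent.H26ZClos
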