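import Groth.Agent.H26ZClos.Sections

/-! The Z-closure is Z-closed. -/

set_option autoImplicit false

universe u

open CategoryTheory CategoryTheory.Limits AlgebraicGeometry TopologicalSpace Opposite

namespace Groth.Agent.H26ZClos

variable {X : Scheme.{u}} {Z : Set X}

theorem isCompact_of_le_affine [IsLocallyNoetherian X] {W : X.Opens} (hW : IsAffineOpen W) {U : X.Opens} (h : U ≤ W) :
    IsCompact (U : Set X) := by
  haveI : IsNoetherianRing Γ(X, W) := IsLocallyNoetherian.component_noetherian ⟨W, hW⟩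
  exact (noetherianSpace_set_iff _).1 (noetherianSpace_of_isAffineOpen W hW) U h

variable (F : X.Modules)

/-- A section vanishing in the Z-closure over a quasi-compact open dies at one index. -/
theorem exists_index_of_sec_eq_zero {T : ZClos.Cl Z} {W U : X.Opens} (hUW : U ≤ W) (hU : IsCompact (U : Set X))
    (t : F.presheaf.obj (op (W ⊓ T.U))) (h : res ((ZClos.H0 Z).obj F) hUW (sec F T W t) = 0) :
    ∃ (T' : ZClos.Cl Z) (hT : T ≤ T'), res F (inf_le_inf hUW (ZClos.Cl.U_anti hT)) t = 0 := by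
  classical
  rw [sec_res] at h
  have key : ∀ y : U, ∃ (T' : ZClos.Cl Z) (hT : T ≤ T') (W' : X.Opens) (hW : W' ≤ U), y.1 ∈ W' ∧
      res F (inf_le_inf (hW.trans hUW) (ZClos.Cl.U_anti hT)) t = 0 := by
    intro y
    obtain ⟨T', hT, W', hW, hy, e⟩ := exists_res_eq_zero F y.2 (res F (inf_le_inf_right T.U hUW) t)
      (by rw [h]; exact map_zero _)
    exact ⟨T', hT, W', hW, hy, by rwa [res_res] at e⟩
  choose T' hT W' hW hy e using key
  obtain ⟨S, hS⟩ := hU.elim_finite_subcover (fun y => (W' y : Set X)) (fun y => (W' y).2)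
    (fun y hy' => Set.mem_iUnion.2 ⟨⟨y, hy'⟩, hy _⟩)
  refine ⟨T ⊔ S.sup T', le_sup_left, TopCat.Presheaf.IsSheaf.section_ext F.isSheaf fun x hx => ?_⟩
  obtain ⟨y, hyS, hxy⟩ := Set.mem_iUnion₂.1 (hS hx.1)
  refine ⟨W' y ⊓ (T ⊔ S.sup T').U, inf_le_inf_right _ (hW y), ⟨hxy, hx.2⟩, ?_⟩
  show res F _ (res F _ t) = res F _ 0
  rw [res_res, res_zero,
    ← res_res F (inf_le_inf ((hW y).trans hUW) (ZClos.Cl.U_anti (hT y)))
      (inf_le_inf_left (W' y) (ZClos.Cl.U_anti (le_sup_of_le_right (Finset.le_sup hyS)))), e y, res_zero]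

/-- Sections of the Z-closure inside an affine open come from sections of `F`. -/
theorem exists_sec_eq [IsLocallyNoetherian X] {A : X.Opens} (hA : IsAffineOpen A) {U : X.Opens} (hU : U ≤ A)
    (s : ((ZClos.H0 Z).obj F).presheaf.obj (op U)) :
    ∃ (T : ZClos.Cl Z) (t : F.presheaf.obj (op (U ⊓ T.U))), sec F T U t = s := by
  classical
  choose T W hW hy t ht using fun y : U => exists_sec F s y.2
  obtain ⟨S, hS⟩ := (isCompact_of_le_affine hA hU).elim_finite_subcover (fun y => (W y : Set X)) (fun y => (W y).2)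
    (fun y hy' => Set.mem_iUnion.2 ⟨⟨y, hy'⟩, hy _⟩)
  let T₀ : ZClos.Cl Z := S.sup T
  have hT₀ : ∀ i : S, T i ≤ T₀ := fun i => Finset.le_sup i.2
  obtain ⟨t₀, ht₀⟩ : ∃ t₀ : ∀ i : S, F.presheaf.obj (op (W i ⊓ T₀.U)),
      ∀ i : S, sec F T₀ (W i) (t₀ i) = res _ (hW i) s :=
    ⟨fun i => res F (inf_le_inf_left _ (ZClos.Cl.U_anti (hT₀ i))) (t i),
      fun i => (sec_map F (hT₀ i) _ _).trans (ht i).symm⟩
  have key : ∀ i j : S, ∃ (T' : ZClos.Cl Z) (h : T₀ ≤ T'),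
      res F (inf_le_inf inf_le_left (ZClos.Cl.U_anti h) : (W i ⊓ W j) ⊓ T'.U ≤ W i ⊓ T₀.U) (t₀ i) =
      res F (inf_le_inf inf_le_right (ZClos.Cl.U_anti h) : (W i ⊓ W j) ⊓ T'.U ≤ W j ⊓ T₀.U) (t₀ j) := by
    intro i j
    obtain ⟨T', hT', e⟩ := exists_index_of_sec_eq_zero F (le_refl (W i ⊓ W j))
      (isCompact_of_le_affine hA (inf_le_left.trans ((hW i).trans hU)))
      (res F (inf_le_inf_right T₀.U inf_le_left) (t₀ i) - res F (inf_le_inf_right T₀.U inf_le_right) (t₀ j))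
      (by
        rw [res_self, sec_sub, sub_eq_zero, ← sec_res F T₀ (inf_le_left : W i ⊓ W j ≤ W i),
          ← sec_res F T₀ (inf_le_right : W i ⊓ W j ≤ W j), ht₀, ht₀, res_res, res_res])
    refine ⟨T', hT', ?_⟩
    rw [show ∀ a b : F.presheaf.obj (op ((W i ⊓ W j) ⊓ T₀.U)), res F _ (a - b) = res F _ a - res F _ b from
      fun a b => map_sub (res F (inf_le_inf le_rfl (ZClos.Cl.U_anti hT'))).hom a b, res_res, res_res, sub_eq_zero] at e
    exact e
  choose T₁ hT₁ he using key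
  let T₂ : ZClos.Cl Z := T₀ ⊔ (Finset.univ : Finset (S × S)).sup fun p => T₁ p.1 p.2
  have h₂ : ∀ i j, T₁ i j ≤ T₂ := fun i j => le_sup_of_le_right (Finset.le_sup (f := fun p : S × S => T₁ p.1 p.2) (Finset.mem_univ (i, j)))
  let sf : ∀ i : S, F.presheaf.obj (op (W i ⊓ T₂.U)) := fun i =>
    res F (inf_le_inf_left _ (ZClos.Cl.U_anti (le_sup_left : T₀ ≤ T₂))) (t₀ i)
  have hcomp : TopCat.Presheaf.IsCompatible F.presheaf (fun i : S => W i ⊓ T₂.U) sf := by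
    intro i j
    show res F inf_le_left (res F _ (t₀ i)) = res F inf_le_right (res F _ (t₀ j))
    have e := congrArg (res F (show (W i ⊓ T₂.U) ⊓ (W j ⊓ T₂.U) ≤ (W i ⊓ W j) ⊓ (T₁ i j).U from
      le_inf (inf_le_inf inf_le_left inf_le_left) (inf_le_left.trans (inf_le_right.trans (ZClos.Cl.U_anti (h₂ i j))))))
      (he i j)
    rw [res_res, res_res] at e
    rw [res_res, res_res]
    exact e
  obtain ⟨g, hg, -⟩ := (abSheaf F).existsUnique_gluing' (fun i : S => W i ⊓ T₂.U) (U ⊓ T₂.U)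
    (fun i => homOfLE (inf_le_inf_right _ (hW i))) (fun x hx => by
      obtain ⟨y, hyS, hxy⟩ := Set.mem_iUnion₂.1 (hS hx.1)
      exact Opens.mem_iSup.2 ⟨⟨y, hyS⟩, hxy, hx.2⟩) sf hcomp
  refine ⟨T₂, g, TopCat.Presheaf.IsSheaf.section_ext ((ZClos.H0 Z).obj F).isSheaf fun x hx => ?_⟩
  obtain ⟨y, hyS, hxy⟩ := Set.mem_iUnion₂.1 (hS hx)
  refine ⟨W y, hW y, hxy, ?_⟩
  show res _ (hW y) (sec F T₂ U g) = res _ (hW y) s
  rw [sec_res, show res F (inf_le_inf_right T₂.U (hW y)) g = sf ⟨y, hyS⟩ from hg ⟨y, hyS⟩,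
    ← ht₀ ⟨y, hyS⟩]
  exact sec_map F (le_sup_left : T₀ ≤ T₂) _ _

theorem H0_injective [IsLocallyNoetherian X] (T : ZClos.Cl Z) (V : X.Opens) :
    Function.Injective (res ((ZClos.H0 Z).obj F) (inf_le_left : V ⊓ T.U ≤ V)) := by
  refine injective_of_basis _ _ X.isBasis_affineOpens (fun A hA a b e => ?_) V
  obtain ⟨T₀, t, ht⟩ := exists_sec_eq F hA le_rfl (a - b)
  have hz : res ((ZClos.H0 Z).obj F) (inf_le_left : A ⊓ T.U ≤ A) (sec F T₀ A t) = 0 := by
    rw [ht, show res _ _ (a - b) = res _ _ a - res _ _ b from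
      map_sub (res ((ZClos.H0 Z).obj F) (inf_le_left : A ⊓ T.U ≤ A)).hom a b, e, sub_self]
  obtain ⟨T', hT', e'⟩ := exists_index_of_sec_eq_zero F inf_le_left (isCompact_of_le_affine hA inf_le_left) t hz
  rw [← sub_eq_zero, ← ht, ← sec_map F (le_sup_left.trans' hT' : T₀ ≤ T' ⊔ T)]
  have h2 : res F (inf_le_inf_left A (ZClos.Cl.U_anti (le_sup_left.trans' hT' : T₀ ≤ T' ⊔ T))) t = 0 := by
    have := congrArg (res F (show A ⊓ (T' ⊔ T).U ≤ (A ⊓ T.U) ⊓ T'.U from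
      le_inf (le_inf inf_le_left (inf_le_right.trans (ZClos.Cl.U_anti le_sup_right)))
        (inf_le_right.trans (ZClos.Cl.U_anti le_sup_left)))) e'
    rwa [res_res, res_zero] at this
  rw [h2, sec_zero]

theorem H0_surjective [IsLocallyNoetherian X] (T : ZClos.Cl Z) (V : X.Opens)
    (s : ((ZClos.H0 Z).obj F).presheaf.obj (op (V ⊓ T.U))) :
    ∃ t, res ((ZClos.H0 Z).obj F) (inf_le_left : V ⊓ T.U ≤ V) t = s := by
  refine mem_range_of_local _ T.U (H0_injective F T) s fun x hx => ?_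
  obtain ⟨_, ⟨A, hA, rfl⟩, hxA, hAV⟩ := X.isBasis_affineOpens.exists_subset_of_mem_open hx V.2
  refine ⟨A, hAV, hxA, ?_⟩
  obtain ⟨T₀, t, ht⟩ := exists_sec_eq F hA inf_le_left (res _ (inf_le_inf_right T.U hAV) s)
  refine ⟨sec F (T₀ ⊔ T) A (res F (show A ⊓ (T₀ ⊔ T).U ≤ (A ⊓ T.U) ⊓ T₀.U from
    le_inf (le_inf inf_le_left (inf_le_right.trans (ZClos.Cl.U_anti le_sup_right)))
      (inf_le_right.trans (ZClos.Cl.U_anti le_sup_left))) t), ?_⟩
  rw [← ht, sec_res, res_res, ← sec_map F (le_sup_left : T₀ ≤ T₀ ⊔ T) _ t]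

theorem isZClosed_H0 [IsLocallyNoetherian X] : ZClos.IsZClosed Z ((ZClos.H0 Z).obj F) :=
  (isZClosed_iff_res Z _).2 fun T V => ⟨H0_injective F T V, H0_surjective F T V⟩

end Groth.Agent.H26ZClos
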