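import Groth.Agent.H26ZClos.Basic
import Mathlib.Topology.Sheaves.SheafCondition.UniqueGluing

/-! Local nature of purity and closedness. -/

set_option autoImplicit false

universe u

open CategoryTheory CategoryTheory.Limits AlgebraicGeometry TopologicalSpace Opposite

namespace Groth.Agent.H26ZClos

variable {X : Scheme.{u}}

/-- A module as a sheaf of abelian groups. -/
noncomputable abbrev abSheaf (F : X.Modules) : TopCat.Sheaf AddCommGrpCat.{u} X := ⟨F.presheaf, F.isSheaf⟩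

/-- Extending a section from `V ⊓ U` to `V` is a local problem. -/
theorem mem_range_of_local (F : X.Modules) (U : X.Opens)
    (hinj : ∀ V : X.Opens, Function.Injective (res F (inf_le_left : V ⊓ U ≤ V)))
    {V : X.Opens} (s : F.presheaf.obj (op (V ⊓ U)))
    (h : ∀ x ∈ V, ∃ (W : X.Opens) (hWV : W ≤ V), x ∈ W ∧
      ∃ t, res F (inf_le_left : W ⊓ U ≤ W) t = res F (inf_le_inf_right U hWV) s) :
    ∃ t, res F (inf_le_left : V ⊓ U ≤ V) t = s := by
  choose W hWV hxW t ht using fun x : V => h x.1 x.2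
  have hcov : V ≤ iSup W := fun x hx => Opens.mem_iSup.2 ⟨⟨x, hx⟩, hxW ⟨x, hx⟩⟩
  have hcomp : TopCat.Presheaf.IsCompatible F.presheaf W t := by
    intro i j
    refine hinj (W i ⊓ W j) ?_
    show res F _ (res F (inf_le_left : W i ⊓ W j ≤ W i) (t i)) = res F _ (res F (inf_le_right : W i ⊓ W j ≤ W j) (t j))
    rw [res_res, res_res,
      ← res_res F (inf_le_left : W i ⊓ U ≤ W i) (inf_le_inf_right U inf_le_left : (W i ⊓ W j) ⊓ U ≤ W i ⊓ U),
      ← res_res F (inf_le_left : W j ⊓ U ≤ W j) (inf_le_inf_right U inf_le_right : (W i ⊓ W j) ⊓ U ≤ W j ⊓ U),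
      ht i, ht j, res_res, res_res]
  obtain ⟨g, hg, -⟩ := (abSheaf F).existsUnique_gluing' W V (fun i => homOfLE (hWV i)) hcov t hcomp
  refine ⟨g, ?_⟩
  refine TopCat.Presheaf.IsSheaf.section_ext F.isSheaf fun x hx => ?_
  refine ⟨W ⟨x, hx.1⟩ ⊓ U, inf_le_inf_right U (hWV _), ⟨hxW _, hx.2⟩, ?_⟩
  show res F _ (res F (inf_le_left : V ⊓ U ≤ V) g) = res F (inf_le_inf_right U (hWV _)) s
  rw [res_res, ← res_res F (hWV _) (inf_le_left : W ⟨x, hx.1⟩ ⊓ U ≤ _), ← ht]
  exact congrArg _ (hg _)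

/-- Bijectivity may be tested on a basis. -/
theorem bijective_of_basis (F : X.Modules) (U : X.Opens) {B : Set X.Opens} (hB : Opens.IsBasis B)
    (h : ∀ W ∈ B, Function.Bijective (res F (inf_le_left : W ⊓ U ≤ W))) (V : X.Opens) :
    Function.Bijective (res F (inf_le_left : V ⊓ U ≤ V)) := by
  have hinj := injective_of_basis F U hB fun W hW => (h W hW).1
  refine ⟨hinj V, fun s => mem_range_of_local F U hinj s fun x hx => ?_⟩
  obtain ⟨_, ⟨W, hW, rfl⟩, hxW, hWV⟩ := hB.exists_subset_of_mem_open hx V.2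
  exact ⟨W, hWV, hxW, (h W hW).2 _⟩

/-- Purity in terms of sections. -/
theorem isZPure_iff_res (Z : Set X) (F : X.Modules) :
    ZClos.IsZPure Z F ↔ ∀ (T : ZClos.Cl Z) (V : X.Opens), Function.Injective (res F (inf_le_left : V ⊓ T.U ≤ V)) :=
  (isZPure_iff_mono Z F).trans (forall_congr' fun T => mono_toDiagram_iff Z F T)

/-- Closedness in terms of sections. -/
theorem isZClosed_iff_res (Z : Set X) (F : X.Modules) :
    ZClos.IsZClosed Z F ↔ ∀ (T : ZClos.Cl Z) (V : X.Opens), Function.Bijective (res F (inf_le_left : V ⊓ T.U ≤ V)) :=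
  (isZClosed_iff_isIso Z F).trans (forall_congr' fun T => isIso_toDiagram_iff Z F T)

theorem res_restrict {V : X.Opens} (F : X.Modules) {A B : (V : Scheme.{u}).Opens} (h : B ≤ A) :
    res ((Scheme.Modules.restrictFunctor V.ι).obj F) h = res F (V.ι.image_mono h) := rfl

theorem image_inf_compl {Z : Set X} (V : X.Opens) (T : ZClos.Cl Z) (T' : ZClos.Cl (V.ι.base ⁻¹' Z))
    (hT : (T'.1 : Set ↥(V : Scheme.{u})) = V.ι.base ⁻¹' (T.1 : Set X)) (W : (V : Scheme.{u}).Opens) :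
    V.ι ''ᵁ (W ⊓ T'.U) = V.ι ''ᵁ W ⊓ T.U := by
  ext z
  constructor
  · rintro ⟨w, ⟨hw, hw'⟩, rfl⟩
    exact ⟨⟨w, hw, rfl⟩, fun h => hw' (hT.ge h)⟩
  · rintro ⟨⟨w, hw, rfl⟩, hw'⟩
    exact ⟨w, ⟨hw, fun h => hw' (hT.le h)⟩, rfl⟩

/-- The trace of a member of the index on an open subscheme. -/
def clTrace {Z : Set X} (V : X.Opens) (T : ZClos.Cl Z) : ZClos.Cl (V.ι.base ⁻¹' Z) :=
  ⟨⟨V.ι.base ⁻¹' (T.1 : Set X), T.1.2.preimage V.ι.continuous⟩, Set.preimage_mono T.2⟩

/-- Every member of the index of an open subscheme is a trace. -/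
theorem exists_trace [IsLocallyNoetherian X] {Z : Set X} (hZ : StableUnderSpecialization Z) (V : X.Opens)
    (T' : ZClos.Cl (V.ι.base ⁻¹' Z)) :
    ∃ T : ZClos.Cl Z, (T'.1 : Set ↥(V : Scheme.{u})) = V.ι.base ⁻¹' (T.1 : Set X) := by
  obtain ⟨C, hC, hCT⟩ := V.ι.isOpenEmbedding.isInducing.isClosed_iff.1 T'.1.2
  have hsub : C ∩ (V : Set X) ⊆ Z := by
    rintro z ⟨hzC, hzV⟩
    exact T'.2 (hCT.le (show (⟨z, hzV⟩ : ↥(V : Scheme.{u})) ∈ V.ι.base ⁻¹' C from hzC))
  refine ⟨clClosure hZ C V hC V.2 hsub, ?_⟩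
  ext w
  refine ⟨fun hw => subset_closure ⟨hCT.ge hw, w.2⟩, fun hw => hCT.le ?_⟩
  exact closure_minimal Set.inter_subset_left hC hw

theorem isZPure_restrict_iff [IsLocallyNoetherian X] {Z : Set X} (hZ : StableUnderSpecialization Z) (V : X.Opens)
    (F : X.Modules) :
    ZClos.IsZPure (V.ι.base ⁻¹' Z) ((Scheme.Modules.restrictFunctor V.ι).obj F) ↔
      ∀ (T : ZClos.Cl Z) (W : X.Opens), W ≤ V → Function.Injective (res F (inf_le_left : W ⊓ T.U ≤ W)) := by
  rw [isZPure_iff_res]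
  constructor
  · intro h T W hWV
    obtain ⟨W', rfl⟩ : ∃ W', W = V.ι ''ᵁ W' := ⟨V.ι ⁻¹ᵁ W, by
      rw [ι_image_preimage', inf_eq_left.2 hWV]⟩
    have := h (clTrace V T) W'
    rw [res_restrict] at this
    exact (res_injective_congr F _ _ (image_inf_compl V T (clTrace V T) rfl W')).1 this
  · intro h T' W'
    obtain ⟨T, hT⟩ := exists_trace hZ V T'
    rw [res_restrict]
    exact (res_injective_congr F _ _ (image_inf_compl V T T' hT W')).2
      (h T _ ((V.ι.image_le_opensRange W').trans_eq V.opensRange_ι))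

theorem isZClosed_restrict_iff [IsLocallyNoetherian X] {Z : Set X} (hZ : StableUnderSpecialization Z) (V : X.Opens)
    (F : X.Modules) :
    ZClos.IsZClosed (V.ι.base ⁻¹' Z) ((Scheme.Modules.restrictFunctor V.ι).obj F) ↔
      ∀ (T : ZClos.Cl Z) (W : X.Opens), W ≤ V → Function.Bijective (res F (inf_le_left : W ⊓ T.U ≤ W)) := by
  rw [isZClosed_iff_res]
  constructor
  · intro h T W hWV
    obtain ⟨W', rfl⟩ : ∃ W', W = V.ι ''ᵁ W' := ⟨V.ι ⁻¹ᵁ W, by
      rw [ι_image_preimage', inf_eq_left.2 hWV]⟩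
    have := h (clTrace V T) W'
    rw [res_restrict] at this
    exact ⟨(res_injective_congr F _ _ (image_inf_compl V T (clTrace V T) rfl W')).1 this.1,
      (res_surjective_congr F _ _ (image_inf_compl V T (clTrace V T) rfl W')).1 this.2⟩
  · intro h T' W'
    obtain ⟨T, hT⟩ := exists_trace hZ V T'
    rw [res_restrict]
    have := h T _ ((V.ι.image_le_opensRange W').trans_eq V.opensRange_ι : V.ι ''ᵁ W' ≤ V)
    exact ⟨(res_injective_congr F _ _ (image_inf_compl V T T' hT W')).2 this.1,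
      (res_surjective_congr F _ _ (image_inf_compl V T T' hT W')).2 this.2⟩

/-- Opens contained in a member of an open cover form a basis. -/
theorem isBasis_le_cover {ι : Type*} (V : ι → X.Opens) (hV : iSup V = ⊤) :
    Opens.IsBasis {W : X.Opens | ∃ i, W ≤ V i} := by
  refine Opens.isBasis_iff_nbhd.2 fun {U x} hx => ?_
  have h' : x ∈ iSup V := by rw [hV]; trivial
  obtain ⟨i, hi⟩ := Opens.mem_iSup.1 h'
  exact ⟨U ⊓ V i, ⟨i, inf_le_right⟩, ⟨hx, hi⟩, inf_le_left⟩

end Groth.Agent.H26ZClos
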