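import Groth.Agent.H26ZClos.Closure

/-! Universal property of the Z-closure. -/

set_option autoImplicit false

universe u

open CategoryTheory CategoryTheory.Limits AlgebraicGeometry TopologicalSpace Opposite

namespace Groth.Agent.H26ZClos

variable {X : Scheme.{u}} {Z : Set X}

theorem app_res {M N : X.Modules} (φ : M ⟶ N) {A B : X.Opens} (h : B ≤ A) (a : M.presheaf.obj (op A)) :
    φ.app B (res M h a) = res N h (φ.app A a) :=
  congr($(φ.mapPresheaf.naturality (homOfLE h).op) a)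

theorem stalk_app {M N : X.Modules} (φ : M ⟶ N) {A : X.Opens} {x : X} (hx : x ∈ A) (a : M.presheaf.obj (op A)) :
    (TopCat.Presheaf.stalkFunctor (C := Ab.{u}) x).map φ.mapPresheaf (M.presheaf.germ A x hx a) =
      N.presheaf.germ A x hx (φ.app A a) :=
  TopCat.Presheaf.stalkFunctor_map_germ_apply A x hx φ.mapPresheaf a

theorem eq_of_germ_eq [IsLocallyNoetherian X] (hZ : StableUnderSpecialization Z) {F : X.Modules}
    (hF : ZClos.IsZPure Z F) {W : X.Opens} (a b : F.presheaf.obj (op W))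
    (h : ∀ x (hx : x ∈ W), x ∉ Z → F.presheaf.germ W x hx a = F.presheaf.germ W x hx b) : a = b := by
  let O : Set X := {x | ∃ (W' : X.Opens) (hW : W' ≤ W), x ∈ W' ∧ res F hW a = res F hW b}
  have hO : IsOpen O := isOpen_iff_forall_mem_open.2 fun x ⟨W', hW, hx, e⟩ =>
    ⟨W', fun y hy => ⟨W', hW, hy, e⟩, W'.2, hx⟩
  have hsub : Oᶜ ∩ (W : Set X) ⊆ Z := by
    rintro x ⟨hx, hxW⟩
    by_contra hxZ
    obtain ⟨W', hxW', i, i', e⟩ := TopCat.Presheaf.germ_eq _ x hxW hxW _ _ (h x hxW hxZ)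
    exact hx ⟨W', i.le, hxW', e⟩
  let T := clClosure hZ Oᶜ W hO.isClosed_compl W.2 hsub
  refine (isZPure_iff_res Z F).1 hF T W (TopCat.Presheaf.IsSheaf.section_ext F.isSheaf fun x hx => ?_)
  obtain ⟨W', hW', hxW', e⟩ : x ∈ O := by
    by_contra hn
    exact hx.2 (subset_closure ⟨hn, hx.1⟩)
  refine ⟨W' ⊓ T.U, inf_le_inf_right _ hW', ⟨hxW', hx.2⟩, ?_⟩
  show res F _ (res F inf_le_left a) = res F _ (res F inf_le_left b)
  rw [res_res, res_res, ← res_res F hW' (inf_le_left : W' ⊓ T.U ≤ W'), ← res_res F hW' (inf_le_left : W' ⊓ T.U ≤ W') b, e]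

theorem isIso_of_stalk_bijective [IsLocallyNoetherian X] (hZ : StableUnderSpecialization Z) {M N : X.Modules}
    (hM : ZClos.IsZClosed Z M) (hN : ZClos.IsZPure Z N) (φ : M ⟶ N)
    (h : ∀ x, x ∉ Z → Function.Bijective ((TopCat.Presheaf.stalkFunctor (C := Ab.{u}) x).map φ.mapPresheaf)) :
    IsIso φ := by
  have hM' : ZClos.IsZPure Z M := by haveI : IsIso (ZClos.rhoApp Z M) := hM; exact inferInstanceAs (Mono (ZClos.rhoApp Z M))
  have hinj : ∀ W, Function.Injective (φ.app W) := by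
    intro W a a' e
    refine eq_of_germ_eq hZ hM' a a' fun x hx hxZ => (h x hxZ).1 ?_
    rw [stalk_app, stalk_app, e]
  refine (isIso_iff_app φ).2 fun W => ⟨hinj W, fun b => ?_⟩
  have key : ∀ x (hx : x ∈ W), x ∉ Z → ∃ (W' : X.Opens) (hW : W' ≤ W), x ∈ W' ∧ ∃ a, φ.app W' a = res N hW b := by
    intro x hx hxZ
    obtain ⟨c, hc⟩ := (h x hxZ).2 (N.presheaf.germ W x hx b)
    obtain ⟨W₁, hx₁, a₁, rfl⟩ := M.presheaf.exists_germ_eq c
    rw [stalk_app] at hc
    obtain ⟨W', hxW', i₁, i, e⟩ := TopCat.Presheaf.germ_eq _ x hx₁ hx _ _ hc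
    exact ⟨W', i.le, hxW', res M i₁.le a₁, (app_res φ _ _).trans e⟩
  let O : Set X := {x | ∃ (W' : X.Opens) (hW : W' ≤ W), x ∈ W' ∧ ∃ a, φ.app W' a = res N hW b}
  have hO : IsOpen O := isOpen_iff_forall_mem_open.2 fun x ⟨W', hW, hx, e⟩ =>
    ⟨W', fun y hy => ⟨W', hW, hy, e⟩, W'.2, hx⟩
  let T := clClosure hZ Oᶜ W hO.isClosed_compl W.2 (fun x ⟨hx, hxW⟩ => by
    by_contra hxZ
    exact hx (key x hxW hxZ))
  have loc : ∀ x : ↥(W ⊓ T.U), ∃ (W' : X.Opens) (hW : W' ≤ W ⊓ T.U), x.1 ∈ W' ∧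
      ∃ a, φ.app W' a = res N (hW.trans inf_le_left) b := by
    intro x
    obtain ⟨W', hW', hxW', a, e⟩ : x.1 ∈ O := by
      by_contra hn
      exact x.2.2 (subset_closure ⟨hn, x.2.1⟩)
    refine ⟨W' ⊓ T.U, inf_le_inf_right _ hW', ⟨hxW', x.2.2⟩, res M inf_le_left a, ?_⟩
    rw [app_res, e, res_res]
  choose W' hW' hx' a ha using loc
  obtain ⟨g, hg, -⟩ := (abSheaf M).existsUnique_gluing' W' (W ⊓ T.U) (fun i => homOfLE (hW' i))
    (fun x hx => Opens.mem_iSup.2 ⟨⟨x, hx⟩, hx' _⟩) a (fun i j => by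
      refine hinj _ ?_
      show φ.app _ (res M inf_le_left (a i)) = φ.app _ (res M inf_le_right (a j))
      rw [app_res, app_res, ha, ha, res_res, res_res])
  obtain ⟨a', ha'⟩ := ((isZClosed_iff_res Z M).1 hM T W).2 g
  refine ⟨a', (isZPure_iff_res Z N).1 hN T W (TopCat.Presheaf.IsSheaf.section_ext N.isSheaf fun x hx => ?_)⟩
  refine ⟨W' ⟨x, hx⟩, hW' _, hx' _, ?_⟩
  show res N _ (res N inf_le_left (φ.app W a')) = res N _ (res N inf_le_left b)
  rw [← app_res, ha', ← app_res, show res M (hW' _) g = a ⟨x, hx⟩ from hg _, ha, res_res]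

theorem hom_ext_of_closed [IsLocallyNoetherian X] (hZ : StableUnderSpecialization Z) {F F' : X.Modules}
    (hF' : ZClos.IsZPure Z F') (v v' : (ZClos.H0 Z).obj F ⟶ F')
    (h : ZClos.rhoApp Z F ≫ v = ZClos.rhoApp Z F ≫ v') : v = v' := by
  ext W a
  refine eq_of_germ_eq hZ hF' _ _ fun x hx hxZ => ?_
  erw [← stalk_app v hx a, ← stalk_app v' hx a]
  obtain ⟨c, hc⟩ := (rhoStalk_bijective F hxZ).2 (((ZClos.H0 Z).obj F).presheaf.germ W x hx a)
  erw [← hc]
  have h2 := congr($(congrArg (fun φ => (stalkFun x).map φ) h) c)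
  simp only [Functor.map_comp, ConcreteCategory.comp_apply] at h2
  exact h2

end Groth.Agent.H26ZClos
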