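import Groth.Prelude.Def_ZClos
import Groth.Agent.H10Coh.ModGroth
import Mathlib.AlgebraicGeometry.Noetherian
import Mathlib.CategoryTheory.Abelian.GrothendieckAxioms.Colim

/-! Criteria for Z-pure and Z-closed modules. -/

set_option autoImplicit false

universe u

open CategoryTheory CategoryTheory.Limits AlgebraicGeometry TopologicalSpace Opposite

namespace Groth.Agent.H26ZClos

variable {X : Scheme.{u}}

instance isGrothendieckAbelian : IsGrothendieckAbelian.{u} X.Modules :=
  H10Coh.isGrothendieckAbelian_sheafOfModules X.ringCatSheaf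

/-- A point adherent to a locally closed set is a specialization of one of its points. -/
theorem exists_specializes_of_mem_closure [IsLocallyNoetherian X] {C U : Set X} (hC : IsClosed C) (hU : IsOpen U)
    {x : X} (hx : x ∈ closure (C ∩ U)) : ∃ y ∈ C ∩ U, y ⤳ x := by
  obtain ⟨_, ⟨W, hW, rfl⟩, hxW, -⟩ := X.isBasis_affineOpens.exists_subset_of_mem_open (Set.mem_univ x) isOpen_univ
  haveI : IsNoetherianRing Γ(X, W) := IsLocallyNoetherian.component_noetherian ⟨W, hW⟩
  haveI : NoetherianSpace (W : Set X) := noetherianSpace_of_isAffineOpen W hW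
  haveI : QuasiSober (W : Set X) := inferInstanceAs (QuasiSober ↥(W : Scheme.{u}))
  have hx' : (⟨x, hxW⟩ : (W : Set X)) ∈ closure (Subtype.val ⁻¹' (C ∩ U) : Set (W : Set X)) := by
    exact W.2.isOpenMap_subtype_val.preimage_closure_subset_closure_preimage hx
  obtain ⟨S, hSf, hSc, hSi, hS⟩ := NoetherianSpace.exists_finite_set_isClosed_irreducible (α := (W : Set X))
    (isClosed_closure (s := (Subtype.val ⁻¹' (C ∩ U) : Set (W : Set X))))
  have hsub : (Subtype.val ⁻¹' (C ∩ U) : Set (W : Set X)) ⊆ ⋃ t ∈ S, t ∩ Subtype.val ⁻¹' U := fun z hz => by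
    obtain ⟨t, ht, hzt⟩ := Set.mem_sUnion.1 (hS.le (subset_closure hz))
    exact Set.mem_iUnion₂.2 ⟨t, ht, hzt, hz.2⟩
  have h2 := closure_mono hsub hx'
  rw [hSf.closure_biUnion] at h2
  obtain ⟨t, ht, hxt⟩ := Set.mem_iUnion₂.1 h2
  obtain ⟨z, hzt, hzU⟩ : (t ∩ Subtype.val ⁻¹' U).Nonempty := closure_nonempty_iff.1 ⟨_, hxt⟩
  obtain ⟨η, hη⟩ := QuasiSober.sober (hSi t ht) (hSc t ht)
  refine ⟨η.1, ⟨?_, ?_⟩, ?_⟩
  · have h3 : η ∈ closure (Subtype.val ⁻¹' (C ∩ U) : Set (W : Set X)) := hS.ge (Set.mem_sUnion.2 ⟨t, ht, hη.mem⟩)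
    exact closure_minimal (fun w hw => hw.1) (hC.preimage continuous_subtype_val) h3
  · exact (hη.specializes hzt).mem_open (hU.preimage continuous_subtype_val) hzU
  · exact (hη.specializes (closure_minimal Set.inter_subset_left (hSc t ht) hxt)).map continuous_subtype_val

/-- The member of the index given by the closure of a locally closed set inside `Z`. -/
def clClosure [IsLocallyNoetherian X] {Z : Set X} (hZ : StableUnderSpecialization Z) (C U : Set X)
    (hC : IsClosed C) (hU : IsOpen U) (h : C ∩ U ⊆ Z) : ZClos.Cl Z :=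
  ⟨Closeds.closure (C ∩ U), fun _ hx => by
    obtain ⟨y, hy, hyx⟩ := exists_specializes_of_mem_closure hC hU hx
    exact hZ hyx (h hy)⟩

/-- Restriction of sections. -/
noncomputable abbrev res (F : X.Modules) {V W : X.Opens} (h : W ≤ V) : F.presheaf.obj (op V) ⟶ F.presheaf.obj (op W) :=
  F.presheaf.map (homOfLE h).op

theorem res_res (F : X.Modules) {A B C : X.Opens} (h : B ≤ A) (h' : C ≤ B) (s : F.presheaf.obj (op A)) :
    res F h' (res F h s) = res F (h'.trans h) s := by
  show (res F h ≫ res F h') s = _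
  rw [← Functor.map_comp]
  rfl

theorem res_self (F : X.Modules) {A : X.Opens} (s : F.presheaf.obj (op A)) : res F (le_refl A) s = s := by
  show F.presheaf.map (𝟙 (op A)) s = s
  rw [CategoryTheory.Functor.map_id]
  rfl

theorem res_injective_congr (F : X.Modules) {A B B' : X.Opens} (h : B ≤ A) (h' : B' ≤ A) (e : B = B') :
    Function.Injective (res F h) ↔ Function.Injective (res F h') := by
  subst e; rfl

theorem res_surjective_congr (F : X.Modules) {A B B' : X.Opens} (h : B ≤ A) (h' : B' ≤ A) (e : B = B') :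
    Function.Surjective (res F h) ↔ Function.Surjective (res F h') := by
  subst e; rfl

theorem ι_image_preimage' (U V : X.Opens) : U.ι ''ᵁ U.ι ⁻¹ᵁ V = V ⊓ U := by
  rw [ZClos.ι_image_preimage, inf_comm]

theorem toDiagram_app (Z : Set X) (F : X.Modules) (T : ZClos.Cl Z) (V : X.Opens) :
    (ZClos.toDiagram Z F T).app V = res F (T.U.ι.image_preimage_le V) :=
  ZClos.resPushUnit_app_app T.U F V

theorem mono_iff_app {M N : X.Modules} (φ : M ⟶ N) : Mono φ ↔ ∀ V, Function.Injective (φ.app V) := by
  rw [← Functor.mono_map_iff_mono (Scheme.Modules.toPresheaf X), NatTrans.mono_iff_mono_app]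
  exact ⟨fun h V => (AddCommGrpCat.mono_iff_injective _).1 (h (op V)),
    fun h V => (AddCommGrpCat.mono_iff_injective _).2 (h V.unop)⟩

theorem isIso_iff_app {M N : X.Modules} (φ : M ⟶ N) : IsIso φ ↔ ∀ V, Function.Bijective (φ.app V) := by
  rw [Scheme.Modules.Hom.isIso_iff_isIso_app]
  exact forall_congr' fun V => ConcreteCategory.isIso_iff_bijective _

/-- `j_*(F|_U)` has no sections killed on `U`. -/
theorem mono_toDiagram_iff (Z : Set X) (F : X.Modules) (T : ZClos.Cl Z) :
    Mono (ZClos.toDiagram Z F T) ↔ ∀ V : X.Opens, Function.Injective (res F (inf_le_left : V ⊓ T.U ≤ V)) := by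
  refine (mono_iff_app _).trans (forall_congr' fun V => ?_)
  rw [toDiagram_app]
  exact res_injective_congr F _ _ (ι_image_preimage' _ _)

theorem isIso_toDiagram_iff (Z : Set X) (F : X.Modules) (T : ZClos.Cl Z) :
    IsIso (ZClos.toDiagram Z F T) ↔ ∀ V : X.Opens, Function.Bijective (res F (inf_le_left : V ⊓ T.U ≤ V)) := by
  refine (isIso_iff_app _).trans (forall_congr' fun V => ?_)
  rw [toDiagram_app]
  exact and_congr (res_injective_congr F _ _ (ι_image_preimage' _ _))
    (res_surjective_congr F _ _ (ι_image_preimage' _ _))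

/-- The units as a map of diagrams. -/
noncomputable def units (Z : Set X) (F : X.Modules) : (Functor.const (ZClos.Cl Z)).obj F ⟶ (ZClos.diagram Z).obj F where
  app T := ZClos.toDiagram Z F T
  naturality _ _ f := by simp [ZClos.toDiagram_map]

theorem isZPure_iff_mono (Z : Set X) (F : X.Modules) :
    ZClos.IsZPure Z F ↔ ∀ T : ZClos.Cl Z, Mono (ZClos.toDiagram Z F T) := by
  constructor
  · intro h T
    have : Mono (ZClos.toDiagram Z F T ≫ colimit.ι ((ZClos.diagram Z).obj F) T) := by
      rw [← ZClos.rhoApp_eq]; exact h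
    exact mono_of_mono _ (colimit.ι ((ZClos.diagram Z).obj F) T)
  · intro h
    haveI : ∀ T, Mono ((units Z F).app T) := h
    haveI := NatTrans.mono_of_mono_app (units Z F)
    exact colim.map_mono' (units Z F) (isColimitConstCocone _ F) (colimit.isColimit _) (ZClos.rhoApp Z F)
      (fun T => by
        rw [ZClos.rhoApp_eq Z F T]
        simp [units, constCocone])

theorem isZClosed_iff_isIso (Z : Set X) (F : X.Modules) :
    ZClos.IsZClosed Z F ↔ ∀ T : ZClos.Cl Z, IsIso (ZClos.toDiagram Z F T) := by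
  constructor
  · intro h T
    haveI : IsIso (ZClos.rhoApp Z F) := h
    have hp : ZClos.IsZPure Z F := inferInstanceAs (Mono (ZClos.rhoApp Z F))
    have hp' := fun T => (mono_toDiagram_iff Z F T).1 ((isZPure_iff_mono Z F).1 hp T)
    haveI : ∀ (i j : ZClos.Cl Z) (φ : i ⟶ j), Mono (((ZClos.diagram Z).obj F).map φ) := by
      intro i j φ
      refine (mono_iff_app _).2 fun V => ?_
      show Function.Injective ((ZClos.resPushMapApp (ZClos.Cl.U_anti φ.le) F).app V)
      rw [ZClos.resPushMapApp_app]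
      refine (res_injective_congr F _ _ ?_).1 (hp' j (i.U.ι ''ᵁ i.U.ι ⁻¹ᵁ V))
      rw [ι_image_preimage', ι_image_preimage', inf_assoc, inf_eq_right.2 (ZClos.Cl.U_anti φ.le)]
    haveI : Mono (colimit.ι ((ZClos.diagram Z).obj F) T) :=
      IsColimit.mono_ι_app_of_isFiltered (colimit.isColimit _) T
    haveI hcomp : IsIso (ZClos.toDiagram Z F T ≫ colimit.ι ((ZClos.diagram Z).obj F) T) := by
      rw [← ZClos.rhoApp_eq]; exact h
    haveI : Epi (colimit.ι ((ZClos.diagram Z).obj F) T) := epi_of_epi (ZClos.toDiagram Z F T) _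
    haveI := isIso_of_mono_of_epi (colimit.ι ((ZClos.diagram Z).obj F) T)
    exact IsIso.of_isIso_comp_right _ (colimit.ι ((ZClos.diagram Z).obj F) T)
  · intro h
    haveI : ∀ T, IsIso ((units Z F).app T) := h
    haveI : IsIso (units Z F) := NatIso.isIso_of_isIso_app _
    let e := IsColimit.coconePointsIsoOfNatIso (isColimitConstCocone _ F) (colimit.isColimit ((ZClos.diagram Z).obj F))
      (asIso (units Z F))
    have he : ZClos.rhoApp Z F = e.hom := by
      refine (isColimitConstCocone (ZClos.Cl Z) F).hom_ext fun T => ?_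
      refine Eq.trans ?_ (IsColimit.comp_coconePointsIsoOfNatIso_hom _ _ _ T).symm
      exact (Category.id_comp _).trans (ZClos.rhoApp_eq Z F T)
    show IsIso (ZClos.rhoApp Z F)
    rw [he]
    infer_instance

/-- Injectivity may be tested on a basis. -/
theorem injective_of_basis (F : X.Modules) (U : X.Opens) {B : Set X.Opens} (hB : Opens.IsBasis B)
    (h : ∀ W ∈ B, Function.Injective (res F (inf_le_left : W ⊓ U ≤ W))) (V : X.Opens) :
    Function.Injective (res F (inf_le_left : V ⊓ U ≤ V)) := by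
  intro s t e
  refine TopCat.Presheaf.IsSheaf.section_ext F.isSheaf fun x hx => ?_
  obtain ⟨_, ⟨W, hW, rfl⟩, hxW, hWV⟩ := hB.exists_subset_of_mem_open hx V.2
  refine ⟨W, hWV, hxW, h W hW ?_⟩
  show res F (inf_le_left : W ⊓ U ≤ W) (res F hWV s) = res F (inf_le_left : W ⊓ U ≤ W) (res F hWV t)
  rw [res_res, res_res, ← res_res F (inf_le_left : V ⊓ U ≤ V) (inf_le_inf_right U hWV),
    ← res_res F (inf_le_left : V ⊓ U ≤ V) (inf_le_inf_right U hWV) t, e]

end Groth.Agent.H26ZClos
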