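import Groth.Agent.H26ZClos.Stalk
import Mathlib.CategoryTheory.Limits.ConcreteCategory.Basic
import Mathlib.Algebra.Category.Grp.FilteredColimits

/-! Sections of the Z-closure near a point. -/

set_option autoImplicit false

universe u

open CategoryTheory CategoryTheory.Limits AlgebraicGeometry TopologicalSpace Opposite

namespace Groth.Agent.H26ZClos

variable {X : Scheme.{u}} {Z : Set X} (F : X.Modules)

theorem res_zero (G : X.Modules) {A B : X.Opens} (h : B ≤ A) : res G h 0 = 0 := map_zero (res G h).hom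

/-- The section of the Z-closure given by a section of `F` off a member of the index. -/
noncomputable def sec (T : ZClos.Cl Z) (W : X.Opens) (t : F.presheaf.obj (op (W ⊓ T.U))) :
    ((ZClos.H0 Z).obj F).presheaf.obj (op W) :=
  (colimit.ι ((ZClos.diagram Z).obj F) T).app W
    (res F (show T.U.ι ''ᵁ T.U.ι ⁻¹ᵁ W ≤ W ⊓ T.U from (ι_image_preimage' _ _).le) t)

theorem sec_zero (T : ZClos.Cl Z) (W : X.Opens) : sec F T W 0 = 0 := by
  unfold sec
  rw [res_zero]
  exact map_zero ((colimit.ι ((ZClos.diagram Z).obj F) T).app W).hom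

theorem sec_sub (T : ZClos.Cl Z) (W : X.Opens) (t t' : F.presheaf.obj (op (W ⊓ T.U))) :
    sec F T W (t - t') = sec F T W t - sec F T W t' := by
  unfold sec
  rw [show res F _ (t - t') = res F _ t - res F _ t' from map_sub (res F _).hom t t']
  exact map_sub ((colimit.ι ((ZClos.diagram Z).obj F) T).app W).hom _ _

theorem sec_res (T : ZClos.Cl Z) {W W' : X.Opens} (h : W' ≤ W) (t : F.presheaf.obj (op (W ⊓ T.U))) :
    res ((ZClos.H0 Z).obj F) h (sec F T W t) = sec F T W' (res F (inf_le_inf_right T.U h) t) := by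
  unfold sec
  refine Eq.trans (congr($((colimit.ι ((ZClos.diagram Z).obj F) T).mapPresheaf.naturality (homOfLE h).op) _)).symm ?_
  show (colimit.ι ((ZClos.diagram Z).obj F) T).app W' (res (((ZClos.diagram Z).obj F).obj T) h _) = _
  congr 1
  show res F (T.U.ι.image_mono (T.U.ι.preimage_mono h)) (res F _ t) = _
  rw [res_res, res_res]

theorem sec_map {T T' : ZClos.Cl Z} (h : T ≤ T') (W : X.Opens) (t : F.presheaf.obj (op (W ⊓ T.U))) :
    sec F T' W (res F (inf_le_inf_left W (ZClos.Cl.U_anti h)) t) = sec F T W t := by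
  unfold sec
  conv_rhs => rw [← colimit.w ((ZClos.diagram Z).obj F) (homOfLE h)]
  show _ = (colimit.ι ((ZClos.diagram Z).obj F) T').app W
    ((ZClos.resPushMapApp (ZClos.Cl.U_anti h) F).app W _)
  rw [ZClos.resPushMapApp_app]
  congr 1
  show _ = res F (ZClos.resPush_le (ZClos.Cl.U_anti h) W) _
  rw [res_res, res_res]

theorem germ_sec (T : ZClos.Cl Z) {W : X.Opens} {x : X} (hx : x ∈ W) (t : F.presheaf.obj (op (W ⊓ T.U))) :
    ((ZClos.H0 Z).obj F).presheaf.germ W x hx (sec F T W t) =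
      (stalkFun x).map (colimit.ι ((ZClos.diagram Z).obj F) T)
        ((((ZClos.diagram Z).obj F).obj T).presheaf.germ W x hx
          (res F (show T.U.ι ''ᵁ T.U.ι ⁻¹ᵁ W ≤ W ⊓ T.U from (ι_image_preimage' _ _).le) t)) := by
  unfold sec
  rw [stalkFun_map]
  exact (TopCat.Presheaf.stalkFunctor_map_germ_apply W x hx (colimit.ι ((ZClos.diagram Z).obj F) T).mapPresheaf _).symm

/-- Near any point a section of the Z-closure comes from a section of `F`. -/
theorem exists_sec {V : X.Opens} (s : ((ZClos.H0 Z).obj F).presheaf.obj (op V)) {x : X} (hx : x ∈ V) :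
    ∃ (T : ZClos.Cl Z) (W : X.Opens) (hWV : W ≤ V), x ∈ W ∧
      ∃ t, res ((ZClos.H0 Z).obj F) hWV s = sec F T W t := by
  haveI := preservesColimitsOfShape_stalkFun x (ZClos.Cl Z)
  obtain ⟨T, a, ha⟩ := Concrete.isColimit_exists_rep _
    (isColimitOfPreserves (stalkFun x) (colimit.isColimit ((ZClos.diagram Z).obj F)))
    (((ZClos.H0 Z).obj F).presheaf.germ V x hx s)
  obtain ⟨W, hW, b, rfl⟩ := TopCat.Presheaf.exists_germ_eq (((ZClos.diagram Z).obj F).obj T).presheaf a
  have hb : res F (show T.U.ι ''ᵁ T.U.ι ⁻¹ᵁ W ≤ W ⊓ T.U from (ι_image_preimage' _ _).le)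
      (res F (show W ⊓ T.U ≤ T.U.ι ''ᵁ T.U.ι ⁻¹ᵁ W from (ι_image_preimage' _ _).ge) b) = b := by
    rw [res_res]; exact res_self F (A := T.U.ι ''ᵁ T.U.ι ⁻¹ᵁ W) b
  have h1 : ((ZClos.H0 Z).obj F).presheaf.germ V x hx s =
      ((ZClos.H0 Z).obj F).presheaf.germ W x hW
        (sec F T W (res F (show W ⊓ T.U ≤ T.U.ι ''ᵁ T.U.ι ⁻¹ᵁ W from (ι_image_preimage' _ _).ge) b)) := by
    rw [germ_sec, hb]
    exact ha.symm
  obtain ⟨W', hxW', iV, iW, e⟩ := TopCat.Presheaf.germ_eq _ x hx hW _ _ h1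
  exact ⟨T, W', iV.le, hxW', _, e.trans (sec_res F T iW.le _)⟩

/-- A section of `F` with vanishing germ in the Z-closure dies at a bigger member of the index. -/
theorem exists_res_eq_zero {T : ZClos.Cl Z} {W : X.Opens} {x : X} (hx : x ∈ W)
    (t : F.presheaf.obj (op (W ⊓ T.U)))
    (h : ((ZClos.H0 Z).obj F).presheaf.germ W x hx (sec F T W t) = 0) :
    ∃ (T' : ZClos.Cl Z) (hT : T ≤ T') (W' : X.Opens) (hW : W' ≤ W), x ∈ W' ∧
      res F (inf_le_inf hW (ZClos.Cl.U_anti hT)) t = 0 := by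
  haveI := preservesColimitsOfShape_stalkFun x (ZClos.Cl Z)
  rw [germ_sec] at h
  replace h := h.trans (map_zero ((stalkFun x).map (colimit.ι ((ZClos.diagram Z).obj F) T)).hom).symm
  obtain ⟨T', f, g, hfg⟩ := Concrete.isColimit_exists_of_rep_eq _
    (isColimitOfPreserves (stalkFun x) (colimit.isColimit ((ZClos.diagram Z).obj F))) _ _ h
  obtain rfl : f = g := Subsingleton.elim _ _
  change (stalkFun x).map (((ZClos.diagram Z).obj F).map f) _ = (stalkFun x).map (((ZClos.diagram Z).obj F).map f) 0 at hfg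
  rw [map_zero] at hfg
  rw [stalkFun_map] at hfg
  erw [TopCat.Presheaf.stalkFunctor_map_germ_apply W x hx (((ZClos.diagram Z).obj F).map f).mapPresheaf] at hfg
  replace hfg := hfg.trans (map_zero ((((ZClos.diagram Z).obj F).obj T').presheaf.germ W x hx).hom).symm
  obtain ⟨W', hxW', i, i', e⟩ := TopCat.Presheaf.germ_eq _ x hx hx _ _ hfg
  refine ⟨T', f.le, W', i.le, hxW', ?_⟩
  rw [map_zero] at e
  have e' : res F (T'.U.ι.image_mono (T'.U.ι.preimage_mono i.le))
      (res F (ZClos.resPush_le (ZClos.Cl.U_anti f.le) W)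
        (res F (show T.U.ι ''ᵁ T.U.ι ⁻¹ᵁ W ≤ W ⊓ T.U from (ι_image_preimage' _ _).le) t)) = 0 := by
    refine Eq.trans ?_ e
    show _ = res (((ZClos.diagram Z).obj F).obj T') i.le ((ZClos.resPushMapApp (ZClos.Cl.U_anti f.le) F).app W _)
    rw [ZClos.resPushMapApp_app]
    rfl
  rw [res_res, res_res] at e'
  have e2 := congrArg (res F (show W' ⊓ T'.U ≤ T'.U.ι ''ᵁ T'.U.ι ⁻¹ᵁ W' from (ι_image_preimage' _ _).ge)) e'
  rw [res_res, res_zero] at e2
  exact e2

end Groth.Agent.H26ZClos
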